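import Groth.Agent.Lib.CechRes.PullSec
import Groth.Agent.Lib.CohDelta.Units
import Groth.Agent.Lib.DeRhamAlg.BaseChange
import Groth.Agent.Lib.QCoh.Tilde
import Groth.Prelude.Def_ExtPow2

/-!
Sections of `M~` on affine opens; exterior powers of `M~`.
-/

set_option autoImplicit false
set_option linter.style.haveILetI false

universe u

open CategoryTheory AlgebraicGeometry Opposite TopologicalSpace
open scoped TensorProduct

noncomputable section

namespace Groth.Agent.Lib.ExtTilde51

open Groth.Agent.Lib Groth.Agent.Lib.DeRhamAlg.Basic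

/-- Transport of base change along an isomorphism of base rings. -/
theorem isBaseChange_transport {R A S : Type u} [CommRing R] [CommRing A] [CommRing S] [Algebra R A]
    [Algebra R S] (hA : Function.Surjective (algebraMap R A)) (ψ : A →+* S)
    (hψ : ∀ r, ψ (algebraMap R A r) = algebraMap R S r)
    {M N P P' : Type u} [AddCommGroup M] [Module R M] [AddCommGroup N] [Module A N] [Module R N]
    [IsScalarTower R A N] [AddCommGroup P] [Module S P] [AddCommGroup P'] [Module S P'] [Module R P']
    [IsScalarTower R S P'] (t : M ≃ₗ[R] N) (f : N →ₛₗ[ψ] P) (e : P ≃ₗ[S] P')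
    (hf : letI : Algebra A S := ψ.toAlgebra
      letI : Module A P := Module.compHom P ψ
      haveI : IsScalarTower A S P := IsScalarTower.of_algebraMap_smul fun _ _ => rfl
      IsBaseChange S ({ toFun := f, map_add' := f.map_add', map_smul' := f.map_smul' } : N →ₗ[A] P))
    (g : M →ₗ[R] P') (hg : ∀ m, g m = e (f (t m))) : IsBaseChange S g := by
  letI : Algebra A S := ψ.toAlgebra
  letI : Module A P := Module.compHom P ψ
  haveI : IsScalarTower A S P := IsScalarTower.of_algebraMap_smul fun _ _ => rfl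
  let f' : N →ₗ[A] P := { toFun := f, map_add' := f.map_add', map_smul' := f.map_smul' }
  have hf' : IsBaseChange S f' := hf
  refine IsBaseChange.of_lift_unique _ fun Q _ _ _ _ h => ?_
  letI : Module A Q := Module.compHom Q ψ
  haveI : IsScalarTower A S Q := IsScalarTower.of_algebraMap_smul fun _ _ => rfl
  let h' : N →ₗ[A] Q :=
    { toFun := fun n => h (t.symm n)
      map_add' := fun x y => by rw [map_add, map_add]
      map_smul' := fun a x => by
        obtain ⟨r, rfl⟩ := hA a
        rw [algebraMap_smul, map_smul, map_smul]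
        change r • h (t.symm x) = ψ (algebraMap R A r) • h (t.symm x)
        rw [hψ, algebraMap_smul] }
  refine ⟨hf'.lift h' ∘ₗ e.symm.toLinearMap, LinearMap.ext fun m => ?_, fun G hG => ?_⟩
  · change hf'.lift h' (e.symm (g m)) = h m
    rw [hg, e.symm_apply_apply]
    exact (hf'.lift_eq h' (t m)).trans (congrArg h (t.symm_apply_apply m))
  · have h2 : G ∘ₗ e.toLinearMap = hf'.lift h' := hf'.algHom_ext _ _ fun n => by
      rw [hf'.lift_eq]
      change G (e (f n)) = h (t.symm n)
      rw [← LinearMap.congr_fun hG]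
      change G (e (f n)) = G (g (t.symm n))
      rw [hg, t.apply_symm_apply]
    rw [← h2]
    ext x
    simp

variable {R : CommRingCat.{u}} (M : ModuleCat.{u} R)

/-- `M → Γ(M~, U)`. -/
abbrev lU (U : (Spec R).Opens) : M →ₗ[R] Γ(tilde M, U) := (tilde.toOpen M U).hom

lemma lU_res {U V : (Spec R).Opens} (h : V ≤ U) (m : M) :
    (tilde M).presheaf.map (homOfLE h).op (lU M U m) = lU M V m := rfl

/-- On affine opens, sections of `M~` are the base change of `M`. -/
theorem isBaseChange_lU (U : (Spec R).affineOpens) : IsBaseChange Γ(Spec R, U.1) (lU M U.1) := by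
  haveI : ((tilde.functor R).obj M).IsQuasicoherent := QCoh.Tilde.isQCoh_tildeFunctor_obj M
  haveI : (tilde M).IsQuasicoherent := this
  have hA : Function.Surjective (algebraMap R Γ(Spec R, ⊤)) :=
    (ConcreteCategory.bijective_of_isIso (Scheme.ΓSpecIso R).inv).2
  let ψ := ((𝟙 (Spec R) : Spec R ⟶ Spec R).appLE ⊤ U.1 le_top).hom
  have hψ : ∀ r, ψ (algebraMap R Γ(Spec R, ⊤) r) = algebraMap R Γ(Spec R, U.1) r := fun r => by
    simp [ψ, Scheme.Hom.appLE]
  let t : M ≃ₗ[R] Γ(tilde M, ⊤) := (asIso (tilde.toOpen M ⊤)).toLinearEquiv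
  let iso := ((Scheme.Modules.pullbackId (Spec R)).app (tilde M))
  let e : Γ((Scheme.Modules.pullback (𝟙 (Spec R))).obj (tilde M), U.1) ≃ₗ[Γ(Spec R, U.1)]
      Γ(tilde M, U.1) :=
    LinearEquiv.ofBijective
      { toFun := fun x => iso.hom.app U.1 x
        map_add' := map_add (iso.hom.app U.1).hom
        map_smul' := fun r x => Scheme.Modules.Hom.app_smul iso.hom r x }
      (ConcreteCategory.bijective_of_isIso (iso.hom.app U.1))
  refine isBaseChange_transport hA ψ hψ t (CechRes.PullSec.mu (𝟙 (Spec R)) (tilde M) le_top) e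
    (CechRes.PullSec.isBaseChange_mu (𝟙 (Spec R)) (tilde M) (isAffineOpen_top _) U.2 le_top) _ fun m => ?_
  refine (lU_res M (le_top : U.1 ≤ ⊤) m).symm.trans ?_
  refine Eq.trans ?_ (ConcreteCategory.congr_hom
    (iso.hom.mapPresheaf.naturality (homOfLE (le_top : U.1 ≤ (𝟙 (Spec R) : Spec R ⟶ Spec R) ⁻¹ᵁ ⊤)).op) _).symm
  exact congrArg ((tilde M).presheaf.map _) (CohDelta.Units.eta_id (tilde M) ⊤ (t m)).symm

variable (n : ℕ)

/-- The exterior power of a module. -/
abbrev EM : ModuleCat.{u} R := ModuleCat.of R ↥(⋀[R]^n M)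

/-- `(⋀ⁿ M)~` is an exterior power of `M~`. -/
theorem isExtPow : ExtPow.IsExtPow n (tilde M) (tilde (EM M n)) := by
  let hs := fun U : (Spec R).affineOpens =>
    DeRhamAlg.BaseChange.isBaseChange_semimap (lU M U.1) (isBaseChange_lU M U) n
  let φ : ∀ U : (Spec R).affineOpens, Γ(tilde (EM M n), U.1) ≃ₗ[Γ(Spec R, U.1)]
      ↥(⋀[Γ(Spec R, U.1)]^n Γ(tilde M, U.1)) := fun U =>
    (isBaseChange_lU (EM M n) U).equiv.symm.trans (hs U).equiv
  have hφ : ∀ U (x : EM M n), (φ U).symm (semimap (lU M U.1) n x) = lU (EM M n) U.1 x := fun U x => by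
    rw [LinearEquiv.symm_apply_eq]
    change _ = (hs U).equiv ((isBaseChange_lU (EM M n) U).equiv.symm _)
    rw [IsBaseChange.equiv_symm_apply, IsBaseChange.equiv_tmul, one_smul]
  refine ⟨φ, fun U V h e => ?_⟩
  let ρ := ((Spec R).presheaf.map (homOfLE h).op).hom
  letI : Algebra Γ(Spec R, U.1) Γ(Spec R, V.1) := ρ.toAlgebra
  letI : Module Γ(Spec R, U.1) Γ(tilde (EM M n), V.1) := Module.compHom _ ρ
  haveI : IsScalarTower Γ(Spec R, U.1) Γ(Spec R, V.1) Γ(tilde (EM M n), V.1) :=
    IsScalarTower.of_algebraMap_smul fun _ _ => rfl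
  letI : Module Γ(Spec R, U.1) Γ(tilde M, V.1) := Module.compHom _ ρ
  haveI : IsScalarTower Γ(Spec R, U.1) Γ(Spec R, V.1) Γ(tilde M, V.1) :=
    IsScalarTower.of_algebraMap_smul fun _ _ => rfl
  let resM : Γ(tilde M, U.1) →ₗ[Γ(Spec R, U.1)] Γ(tilde M, V.1) :=
    { toFun := fun x => (tilde M).presheaf.map (homOfLE h).op x
      map_add' := map_add ((tilde M).presheaf.map (homOfLE h).op).hom
      map_smul' := fun r x => Scheme.Modules.map_smul (tilde M) (homOfLE h) r x }
  let resE : Γ(tilde (EM M n), U.1) →ₗ[Γ(Spec R, U.1)] Γ(tilde (EM M n), V.1) :=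
    { toFun := fun x => (tilde (EM M n)).presheaf.map (homOfLE h).op x
      map_add' := map_add ((tilde (EM M n)).presheaf.map (homOfLE h).op).hom
      map_smul' := fun r x => Scheme.Modules.map_smul (tilde (EM M n)) (homOfLE h) r x }
  have key : resE ∘ₗ (φ U).symm.toLinearMap =
      ((φ V).symm.toLinearMap.restrictScalars Γ(Spec R, U.1)) ∘ₗ semimap resM n := by
    refine (hs U).algHom_ext _ _ fun x => ?_
    change resE ((φ U).symm (semimap (lU M U.1) n x)) = (φ V).symm (semimap resM n (semimap (lU M U.1) n x))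
    have hx : semimap (B := Γ(Spec R, V.1)) resM n (semimap (lU M U.1) n x) = semimap (lU M V.1) n x := by
      have hmem : x ∈ Submodule.span R (Set.range (exteriorPower.ιMulti R n)) := by
        rw [exteriorPower.ιMulti_span]
        trivial
      induction hmem using Submodule.span_induction with
      | mem y hy =>
        obtain ⟨v, rfl⟩ := hy
        rw [semimap_ιMulti, semimap_ιMulti, semimap_ιMulti]
        exact congrArg _ (funext fun i => lU_res M h (v i))
      | zero => rw [map_zero, map_zero, map_zero]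
      | add a b _ _ ha hb => rw [map_add, map_add, map_add, ha, hb]
      | smul r a _ ha =>
        rw [map_smul, map_smul (semimap (B := Γ(Spec R, V.1)) (lU M V.1) n),
          ← algebraMap_smul Γ(Spec R, U.1) r (semimap (B := Γ(Spec R, U.1)) (lU M U.1) n a), map_smul, ha,
          ← algebraMap_smul Γ(Spec R, V.1) r (semimap (B := Γ(Spec R, V.1)) (lU M V.1) n a),
          ← algebraMap_smul Γ(Spec R, V.1) (algebraMap R Γ(Spec R, U.1) r)]
        rfl
    rw [hφ, hx, hφ]
    exact lU_res (EM M n) h x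
  have := LinearMap.congr_fun key (exteriorPower.ιMulti _ n e)
  exact this.trans (congrArg (φ V).symm (semimap_ιMulti resM e))

end Groth.Agent.Lib.ExtTilde51
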